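import Groth.Agent.Surf.K883.BlowGen
import Groth.Agent.Surf.K461.Plane
import Groth.Agent.Surf.K463.RRd
import Groth.Agent.VBPn.K700.BlSetup
import Groth.Agent.S1697
import Groth.Agent.S10829
import Groth.Agent.Krr.H495.Rank
import Groth.Agent.Sga5.ProjReg

/-!
# The blow-up of the projective plane in finitely many closed points: Picard group and intersection numbers

`Data k X w r` collects `h`, the exceptional curves `E t`, the intersection numbers
`h·h = 1`, `h·x_t = 0`, `x_s·x_t = -δ_{st}`, `h·w = -3`, `x_t·w = 1` (`x_t` the class of the ideal of `E t`),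
`χ(O) = 1` and the generation of `Pic X` by `h` and the `x_t`; `exists_data` provides it for the blow-up of `P²`.
-/

set_option autoImplicit false
set_option linter.unusedSectionVars false
universe u
open CategoryTheory CategoryTheory.Limits AlgebraicGeometry TopologicalSpace

namespace K883.PlaneNum

open Groth.Agent Groth.Agent.Grpsch.PicGrp K464.Base K464.Curves K464.Comp K463.RRd K883.BlowGen
open Groth.Agent.Lefpen.H21.PicTwist Scheme.IdealSheafData

local notation "Sp" k:max => Spec (CommRingCat.of k)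

section P1
variable (k : Type u) [Field k]

theorem N_one (d : ℕ) (N : ℕ) (h : (Finset.finsuppAntidiag (Finset.univ : Finset (Fin 2)) d).card = N) :
    VarietyB.EulerBinom.N 1 d = N := by
  unfold VarietyB.EulerBinom.N
  rw [← h]
  have h1 : {m : Fin (1 + 1) →₀ ℕ | m.degree = d} =
      ((Finset.finsuppAntidiag (Finset.univ : Finset (Fin 2)) d : Finset (Fin 2 →₀ ℕ)) : Set (Fin 2 →₀ ℕ)) := by
    ext m
    simp only [Set.mem_ofPred_eq, Finset.mem_coe, Finset.mem_finsuppAntidiag, Finset.subset_univ, and_true]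
    rw [Finsupp.degree_eq_sum]
  rw [h1, Nat.card_eq_fintype_card]
  simp

theorem euler_zero : Curv2.euler k (CohB1.ProjSpace 1 k) (Twist.twistProjSpace 1 k 0) = 1 := by
  rw [VarietyB.EulerBinom.euler_twist]
  unfold VarietyB.EulerBinom.c
  rw [if_pos le_rfl, Int.toNat_zero, N_one 0 1 (by decide)]
  rfl

theorem euler_one : Curv2.euler k (CohB1.ProjSpace 1 k) (Twist.twistProjSpace 1 k 1) = 2 := by
  rw [VarietyB.EulerBinom.euler_twist]
  unfold VarietyB.EulerBinom.c
  rw [if_pos (by norm_num), Int.toNat_one, N_one 1 2 (by decide)]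
  rfl

theorem chi_o_zero : chi k (CohB1.ProjSpace 1 k) 1 = 1 := by
  rw [← o_zero 1 k]
  exact euler_zero k

theorem chi_o_one : chi k (CohB1.ProjSpace 1 k) (o 1 k 1) = 2 := euler_one k

end P1

section line
variable (k : Type u) [Field k] {X : Scheme.{u}} [X.Over (Sp k)] [IsProper (X ↘ (Sp k))]
  (E : X.IdealSheafData) (j : CohB1.ProjSpace 1 k ⟶ X) [IsClosedImmersion j] (hj : j.ker = E)
  (hjk : j ≫ (X ↘ (Sp k)) = CohB1.ProjSpace.toSpec 1 k)

include hj in
omit [IsProper (X ↘ (Sp k))] [X.Over (Sp k)] in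
/-- The isomorphism of `P¹` with the subscheme. -/
theorem exists_iso : ∃ e : CohB1.ProjSpace 1 k ≅ E.subscheme, e.hom ≫ E.subschemeι = j := by
  have h1 : j.ker = E.subschemeι.ker := by rw [Scheme.IdealSheafData.ker_subschemeι, hj]
  have h2 := IsClosedImmersion.isIso_lift E.subschemeι j h1.symm
  exact ⟨@asIso _ _ _ _ (IsClosedImmersion.lift E.subschemeι j h1.symm.le) h2, IsClosedImmersion.lift_fac _ _ _⟩

include hj in
theorem isCurve : IsCurve E := by
  obtain ⟨e, -⟩ := exists_iso k E j hj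
  have h0 : IsIntegral (CohB1.ProjSpace 1 k) := Lefpen.H717.ProjIrr.isIntegral_projSpace 1 k
  have hne : Nonempty E.subscheme := ⟨e.hom (Classical.arbitrary _)⟩
  refine ⟨isIntegral_of_isOpenImmersion e.inv, ?_⟩
  rw [← dim_sub, ← e.hom.homeomorph.isHomeomorph.topologicalKrullDim_eq]
  exact S10829.result k 1

include hj hjk in
theorem degOn_eq (a : Pic X) : degOn k X E a =
    chi k (CohB1.ProjSpace 1 k) (pull j a) - chi k (CohB1.ProjSpace 1 k) 1 := by
  obtain ⟨e, he⟩ := exists_iso k E j hj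
  obtain ⟨L, hL, rfl⟩ := exists_mk a
  let _ := overC k X E
  have h1 := CurvesC.DegIso.deg_restrict k j E.subschemeι hjk rfl e he L 1
  rw [degOn_eq_deg, ← h1, pull_mk, chi_mk, chi_one]
  unfold Curv2.deg
  push_cast
  ring

include hj hjk in
theorem euler_quot : Curv2.euler k X (ClSub.quotMod E) = 1 := by
  obtain ⟨e, he⟩ := exists_iso k E j hj
  let _ := overC k X E
  rw [euler_quotMod_sub]
  have h1 := CurvesC.DegIso.euler_pullback_iso k e (by
    change e.hom ≫ E.subschemeι ≫ (X ↘ (Sp k)) = _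
    rw [reassoc_of% he]; exact hjk) (Coh.structureModule E.subscheme)
  rw [← h1]
  have h2 := congrArg (chi k (CohB1.ProjSpace 1 k)) (map_one (pull e.hom))
  rw [chi_o_zero] at h2
  exact h2

end line

/-- The numerical data of the blow-up of the plane in `r` points; `w` the canonical class. -/
structure Data (k : Type u) [Field k] (X : Scheme.{u}) [X.Over (Sp k)] (w : Pic X) (r : ℕ) where
  h : Pic X
  E : Fin r → X.IdealSheafData
  eff : ∀ t, BlowUp.IsEffCartierIdeal (E t)
  chi_one : chi k X 1 = 1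
  h_h : dot k X h h = 1
  e_h : ∀ t, dot k X (ic (E t) (eff t)) h = 0
  e_e : ∀ s t, dot k X (ic (E s) (eff s)) (ic (E t) (eff t)) = if s = t then -1 else 0
  h_w : dot k X h w = -3
  e_w : ∀ t, dot k X (ic (E t) (eff t)) w = 1
  gen : ∀ a : Pic X, ∃ (c : ℤ) (d : Fin r → ℤ), a = h ^ c * ∏ t, ic (E t) (eff t) ^ d t

section gen
variable (k : Type u) [Field k] {X : Scheme.{u}} [X.Over (Sp k)] [IsProper (X ↘ (Sp k))] [Smooth (X ↘ (Sp k))]
  [IsIntegral X] (hdim : topologicalKrullDim X = 2) {r : ℕ} {E : Fin r → X.IdealSheafData}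
  (hE : ∀ t, IsCurve (E t)) (eff : ∀ t, BlowUp.IsEffCartierIdeal (E t))

/-- The classes which are products of powers of the `x_t`. -/
def Q {E : Fin r → X.IdealSheafData} (eff : ∀ t, BlowUp.IsEffCartierIdeal (E t)) (a : Pic X) : Prop :=
  ∃ d : Fin r → ℤ, a = ∏ t, ic (E t) (eff t) ^ d t

omit [X.Over (Sp k)] [IsProper (X ↘ (Sp k))] [Smooth (X ↘ (Sp k))] [IsIntegral X] in
theorem Q_one : Q eff 1 := ⟨0, by simp⟩

omit [X.Over (Sp k)] [IsProper (X ↘ (Sp k))] [Smooth (X ↘ (Sp k))] [IsIntegral X] in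
theorem Q_mul {a b : Pic X} (ha : Q eff a) (hb : Q eff b) : Q eff (a * b) := by
  obtain ⟨d, rfl⟩ := ha
  obtain ⟨d', rfl⟩ := hb
  refine ⟨d + d', ?_⟩
  rw [← Finset.prod_mul_distrib]
  exact Finset.prod_congr rfl fun t _ => (zpow_add _ _ _).symm

omit [X.Over (Sp k)] [IsProper (X ↘ (Sp k))] [Smooth (X ↘ (Sp k))] [IsIntegral X] in
theorem Q_inv {a : Pic X} (ha : Q eff a) : Q eff a⁻¹ := by
  obtain ⟨d, rfl⟩ := ha
  refine ⟨-d, ?_⟩
  rw [← Finset.prod_inv_distrib]
  exact Finset.prod_congr rfl fun t _ => (zpow_neg _ _).symm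

omit [X.Over (Sp k)] [IsProper (X ↘ (Sp k))] [Smooth (X ↘ (Sp k))] [IsIntegral X] in
theorem Q_pow {a : Pic X} (ha : Q eff a) (n : ℕ) : Q eff (a ^ n) := by
  induction n with
  | zero => rw [pow_zero]; exact Q_one eff
  | succ n ih => rw [pow_succ]; exact Q_mul eff ih ha

omit [X.Over (Sp k)] [IsProper (X ↘ (Sp k))] [Smooth (X ↘ (Sp k))] [IsIntegral X] in
theorem Q_e (t : Fin r) : Q eff (ic (E t) (eff t)) := by
  classical
  refine ⟨Pi.single t 1, ?_⟩
  rw [Finset.prod_eq_single t]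
  · simp
  · intro s _ hs
    simp [Pi.single_eq_of_ne hs]
  · intro h; exact absurd (Finset.mem_univ t) h

include k hdim hE in
theorem Q_of_support {F : X.IdealSheafData} (hF : BlowUp.IsEffCartierIdeal F)
    (hs : ∀ x ∈ F.support, ∃ t, x ∈ (E t).support) : Q eff (ic F hF) := by
  have : IsNoetherian X := CurvesB.CurveRR.isNoetherian_of_proper k X
  refine eff_induction k (X ↘ Spec (CommRingCat.of k)) hdim (fun x => S1535.result k X x)
    (P := fun F => ∀ hF : BlowUp.IsEffCartierIdeal F, (∀ x ∈ F.support, ∃ t, x ∈ (E t).support) →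
      Q eff (ic F hF)) ?_ ?_ F hF hF hs
  · intro _ _
    rw [ic_top]; exact Q_one eff
  · intro C F hC hCe hFe ih hCF hs
    rw [show ic (C * F) hCF = ic C hCe * ic F hFe from ic_mul hCe hFe]
    have h1 : ∀ x, x ∈ C.support → x ∈ (C * F).support := fun x hx =>
      Scheme.IdealSheafData.support_antitone (K464.DivLat.mul_le_left C F) hx
    have h2 : ∀ x, x ∈ F.support → x ∈ (C * F).support := fun x hx =>
      Scheme.IdealSheafData.support_antitone (K464.DivLat.mul_le_right' C F) hx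
    refine Q_mul eff ?_ (ih hFe fun x hx => hs x (h2 x hx))
    obtain ⟨t, ht⟩ := hs _ (h1 _ (gp_mem hC))
    have h3 := eq_of_gp_mem hC (hE t) ht
    subst h3
    exact Q_e eff t

end gen

section plane
variable (k : Type u) [Field k] [IsAlgClosed k] {r : ℕ} {P : Fin r → ↥(CohB1.ProjSpace 2 k)}
  (hP : Function.Injective P) (hPc : ∀ i, IsClosed ({P i} : Set ↥(CohB1.ProjSpace 2 k)))
  (hZ : IsClosed (Set.range P))
  {X : Scheme.{u}} [X.Over (Sp k)] (σ : X ⟶ CohB1.ProjSpace 2 k)
  (hσk : σ ≫ CohB1.ProjSpace.toSpec 2 k = X ↘ (Sp k))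
  (hσ : BlowUp.IsBlowUp σ (Scheme.IdealSheafData.vanishingIdeal ⟨Set.range P, hZ⟩))
  [IsIntegral X] [IsProper (X ↘ (Sp k))] [Smooth (X ↘ (Sp k))] (hdim : topologicalKrullDim X = 2)

instance : IsLocallyNoetherian (CohB1.ProjSpace 2 k) :=
  LocallyOfFiniteType.isLocallyNoetherian (CohB1.ProjSpace.toSpec 2 k)

omit [IsAlgClosed k] in
theorem dim_plane : topologicalKrullDim (CohB1.ProjSpace 2 k) = 2 := S10829.result k 2

omit [IsAlgClosed k] in
theorem ringKrullDim_stalk (x : CohB1.ProjSpace 2 k) (hx : IsClosed ({x} : Set (CohB1.ProjSpace 2 k))) :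
    ringKrullDim ((CohB1.ProjSpace 2 k).presheaf.stalk x) = 2 := by
  have := VarietyB.EulerBinom.isProper_over k 2
  have := Lefpen.H717.ProjIrr.isIntegral_projSpace 2 k
  have h1 := VarietyB.DimSch.localDim_eq k x
  rw [VarietyB.DimSch.trd_eq_zero_of_isClosed k hx, VarietyB.DimSch.localDim_eq_of_irreducible k x,
    Nat.cast_zero, add_zero] at h1
  rw [← h1, ← VarietyB.DimSch.topologicalKrullDim_eq_trd k, dim_plane]

include hPc in
omit [IsAlgClosed k] in
theorem isParafactorialPair :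
    ParaF.IsParafactorialPair (CohB1.ProjSpace 2 k) (⟨Set.range P, hZ⟩ : Closeds (CohB1.ProjSpace 2 k)) := by
  rw [S2831.result]
  rintro _ ⟨i, rfl⟩
  have := Sga5.ProjReg.isRegularLocalRing_stalk 2 k (P i)
  obtain ⟨h1, h2⟩ := S2821.result ((CohB1.ProjSpace 2 k).presheaf.stalk (P i))
  exact S2834.result _ h2 (ringKrullDim_stalk k (P i) (hPc i)).ge

omit [IsAlgClosed k] in
theorem exists_o (b : Pic (CohB1.ProjSpace 2 k)) : ∃ c : ℤ, b = o 2 k c := by
  obtain ⟨L, hL, rfl⟩ := exists_mk b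
  obtain ⟨c, ⟨e⟩⟩ := S1697.result k 2 L hL
  exact ⟨c, mk_congr e⟩

include hPc hZ hσk hσ in
omit [IsAlgClosed k] [Smooth (X ↘ (Sp k))] in
theorem chi_hyp_zpow (e : ℤ) : chi k X (hyp σ ^ e) =
    Curv2.euler k (CohB1.ProjSpace 2 k) (Twist.twistProjSpace 2 k e) := by
  rw [← mk_pullback_twist, chi_mk]
  exact K461.Plane.euler_pull k hPc hZ σ hσk hσ
    (Krr.H495.Rank.isFinLocFree_of_rank (VarietyB.DegCartier.isFinLocFreeOfRank_one
      (FormalB.TwistGen.isInvertible_twistProjSpace 2 k e)))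

include hP hPc hZ hσk hσ hdim in
/-- The numerical data of the blow-up of the plane in finitely many closed points. -/
theorem exists_data {W : X.Modules} (hW : ExtPow.IsExtPow 2 (Omega.sheaf (X ↘ (Sp k))) W)
    (hWi : PicF.IsInvertible W) : Nonempty (Data k X (mk W hWi) r) := by
  obtain ⟨B, hBπ, hBI, hBj⟩ := K700.BlSetup.exists_setup (r := 1) hP hPc hZ σ hσ
  have heff := K700.BlSetup.isEff (r := 1) hP hPc hZ σ hσ
  let E : Fin r → X.IdealSheafData := fun t => (vanishingIdeal (⟨{P t}, hPc t⟩ : Closeds _)).comap σ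
  have hcl : ∀ t, IsClosedImmersion (B.j t) := B.cl
  have hker : ∀ t, (B.j t).ker = E t := fun t => (B.ker t).trans (hBI t)
  have hjk : ∀ t, B.j t ≫ (X ↘ (Sp k)) = CohB1.ProjSpace.toSpec 1 k := fun t => by
    rw [← hσk, ← Category.assoc, (hBj t).w, Category.assoc, K700.BlSetup.sec_comp (r := 1) hPc t, Category.comp_id]
  have hph : ∀ t, pull (B.j t) (hyp σ) = 1 := fun t => by
    have := B.pull_h t
    rwa [hBπ] at this
  have hpe : ∀ s t, pull (B.j s) (ic (E t) (heff t)) = if s = t then o 1 k 1 else 1 := fun s t => by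
    rw [← B.pull_e s t]
    congr 1
    have : ∀ (I J : X.IdealSheafData) (h : I = J) (hI : PicF.IsInvertible (ClSub.idealMod I))
      (hJ : PicF.IsInvertible (ClSub.idealMod J)), mk _ hI = mk _ hJ := by
      rintro I _ rfl _ _; rfl
    exact this _ _ (hBI t).symm _ _
  have hcurve : ∀ t, IsCurve (E t) := fun t => isCurve k (E t) (B.j t) (hker t)
  have hdeg : ∀ t a, degOn k X (E t) a = chi k (CohB1.ProjSpace 1 k) (pull (B.j t) a) - 1 := fun t a => by
    rw [degOn_eq k (E t) (B.j t) (hker t) (hjk t), chi_o_zero]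
  have hc0 : chi k X 1 = 1 := by
    have := chi_hyp_zpow k hPc hZ σ hσk hσ 0
    rwa [zpow_zero, K461.Plane.euler_zero] at this
  have hc1 : chi k X (hyp σ) = 3 := by
    have := chi_hyp_zpow k hPc hZ σ hσk hσ 1
    rwa [zpow_one, K461.Plane.euler_one] at this
  have hc2 : chi k X (hyp σ * hyp σ) = 6 := by
    have := chi_hyp_zpow k hPc hZ σ hσk hσ 2
    rwa [zpow_two, K461.Plane.euler_two] at this
  have hhh : dot k X (hyp σ) (hyp σ) = 1 := by rw [dot_def, hc0, hc1, hc2]; norm_num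
  have hee : ∀ s t, dot k X (ic (E s) (heff s)) (ic (E t) (heff t)) = if s = t then -1 else 0 := fun s t => by
    rw [dot_ic_eq, hdeg, hpe]
    split_ifs with h
    · rw [chi_o_one]; norm_num
    · rw [chi_o_zero]; norm_num
  refine ⟨{ h := hyp σ, E := E, eff := heff, chi_one := hc0, h_h := hhh, e_h := fun t => ?_, e_e := hee,
            h_w := ?_, e_w := fun t => ?_, gen := fun a => ?_ }⟩
  · rw [dot_ic_eq, hdeg, hph, chi_o_zero]; norm_num
  · have := rr k hdim hW hWi (hyp σ)
    rw [hc1, hc0, hhh] at this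
    linarith
  · have := adj k hdim hW hWi (heff t)
    rw [euler_quot k (E t) (B.j t) (hker t) (hjk t)] at this
    have h1 := hee t t
    rw [if_pos rfl] at h1
    rw [show dot k X (ic (E t) (heff t)) (ic (E t) (heff t)) = -1 from h1] at this
    linarith
  · have hN : IsNoetherian X := CurvesB.CurveRR.isNoetherian_of_proper k X
    have hsup : (vanishingIdeal (⟨Set.range P, hZ⟩ : Closeds (CohB1.ProjSpace 2 k))).support =
        (⟨Set.range P, hZ⟩ : Closeds (CohB1.ProjSpace 2 k)) :=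
      TopologicalSpace.Closeds.ext (Scheme.IdealSheafData.coe_support_vanishingIdeal _)
    have hmem : ∀ x : X, x ∈ ((vanishingIdeal (⟨Set.range P, hZ⟩ : Closeds (CohB1.ProjSpace 2 k))).comap σ).support →
        ∃ t, x ∈ (E t).support := by
      intro x hx
      rw [Scheme.IdealSheafData.support_comap] at hx
      have hx' : σ x ∈ (vanishingIdeal (⟨Set.range P, hZ⟩ : Closeds (CohB1.ProjSpace 2 k))).support := hx
      rw [hsup] at hx'
      obtain ⟨t, ht⟩ := hx'
      refine ⟨t, ?_⟩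
      change x ∈ ((vanishingIdeal (⟨{P t}, hPc t⟩ : Closeds _)).comap σ).support
      rw [Scheme.IdealSheafData.support_comap]
      change σ x ∈ (vanishingIdeal (⟨{P t}, hPc t⟩ : Closeds (CohB1.ProjSpace 2 k))).support
      have : ((vanishingIdeal (⟨{P t}, hPc t⟩ : Closeds (CohB1.ProjSpace 2 k))).support : Set (CohB1.ProjSpace 2 k)) =
          {P t} := Scheme.IdealSheafData.coe_support_vanishingIdeal _
      rw [← SetLike.mem_coe, this]
      exact ht.symm
    have hne : ∃ y : X, σ y ∉ (vanishingIdeal (⟨Set.range P, hZ⟩ : Closeds (CohB1.ProjSpace 2 k))).support := by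
      obtain ⟨x, hx⟩ := (Ega2.BlowBasic.dense_offSupport hσ.1).nonempty
      refine ⟨x, fun h => hx ?_⟩
      rw [Scheme.IdealSheafData.support_comap]
      exact h
    obtain ⟨b, m, D', hD', h1, h2⟩ := exists_pull_mul_div σ _ hσ (hsup ▸ isParafactorialPair k hPc hZ) hne a
    obtain ⟨c, rfl⟩ := exists_o k b
    have h3 : Q heff (ic D' hD') := Q_of_support k hdim hcurve heff hD' fun x hx => hmem x (h1 hx)
    have h4 : Q heff (ic _ hσ.1) := Q_of_support k hdim hcurve heff hσ.1 hmem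
    obtain ⟨d, hd⟩ := Q_mul heff (Q_pow heff h4 m) (Q_inv heff h3)
    refine ⟨c, d, ?_⟩
    rw [← hd]
    have h5 : pull σ (o 2 k c) = hyp σ ^ c := by rw [o_eq_zpow, map_zpow]; rfl
    rw [← h5, ← mul_assoc, ← h2, mul_inv_cancel_right]

end plane

end K883.PlaneNum
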