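import Groth.Agent.Surf.K883.LineLat
import Groth.Agent.Surf.K883.PlaneNum
import Groth.Agent.Surf.K464.RatConf

/-!
# Lines on a del Pezzo surface of degree at least three

`X` a smooth proper integral surface with the numerical data `Data k X w r`, `r ≤ 6` and `w⁻¹` ample: the integral
curves `C` with `(I_C·w) = 1` correspond bijectively to the vectors `(a; b)` with `a² - Σ b² = -1`, `3a - Σ b = 1`.
-/

set_option autoImplicit false
set_option linter.unusedSectionVars false
universe u
open CategoryTheory CategoryTheory.Limits AlgebraicGeometry TopologicalSpace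

namespace K883.Lines

open Groth.Agent Groth.Agent.Grpsch.PicGrp K464.Base K464.Curves K464.Comp K463.HC K463.RRd K883.PlaneNum
  K883.LineLat

local notation "Sp" k:max => Spec (CommRingCat.of k)

variable (k : Type u) [Field k] {X : Scheme.{u}} [X.Over (Sp k)] [IsProper (X ↘ (Sp k))] [Smooth (X ↘ (Sp k))]
  [IsIntegral X] (hdim : topologicalKrullDim X = 2)
  {W : X.Modules} (hW : ExtPow.IsExtPow 2 (Omega.sheaf (X ↘ (Sp k))) W) (hWi : PicF.IsInvertible W)
  {r : ℕ} (D : Data k X (mk W hWi) r)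

/-- The class `a h + Σ b_t x_t`. -/
noncomputable def cls (a : ℤ) (b : Fin r → ℤ) : Pic X := D.h ^ a * ∏ t, ic (D.E t) (D.eff t) ^ b t

include hdim in
theorem dot_h (a : ℤ) (b : Fin r → ℤ) : dot k X (cls k hWi D a b) D.h = a := by
  rw [cls, dot_mul_left k X hdim.le, dot_zpow_left k X hdim.le, D.h_h, dot_prod_left k X hdim.le,
    Finset.sum_eq_zero fun t _ => ?_]
  · ring
  · rw [dot_zpow_left k X hdim.le, D.e_h, mul_zero]

include hdim in
theorem dot_e (a : ℤ) (b : Fin r → ℤ) (t : Fin r) :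
    dot k X (cls k hWi D a b) (ic (D.E t) (D.eff t)) = - b t := by
  rw [cls, dot_mul_left k X hdim.le, dot_zpow_left k X hdim.le, dot_comm, D.e_h, dot_prod_left k X hdim.le,
    Finset.sum_eq_single t]
  · rw [dot_zpow_left k X hdim.le, D.e_e, if_pos rfl]; ring
  · intro s _ hs
    rw [dot_zpow_left k X hdim.le, D.e_e, if_neg hs, mul_zero]
  · intro h; exact absurd (Finset.mem_univ t) h

include hdim in
theorem dot_cls (x : Pic X) (a : ℤ) (b : Fin r → ℤ) : dot k X x (cls k hWi D a b) =
    a * dot k X x D.h + ∑ t, b t * dot k X x (ic (D.E t) (D.eff t)) := by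
  rw [cls, dot_mul_right k X hdim.le, dot_zpow_right k X hdim.le, dot_prod_right k X hdim.le]
  congr 1
  exact Finset.sum_congr rfl fun t _ => dot_zpow_right k X hdim.le _ _ _

include hdim in
theorem dot_self (a : ℤ) (b : Fin r → ℤ) : dot k X (cls k hWi D a b) (cls k hWi D a b) = a ^ 2 - ∑ t, b t ^ 2 := by
  rw [dot_cls k hdim, dot_h k hdim]
  simp_rw [dot_e k hdim]
  rw [sub_eq_add_neg, ← Finset.sum_neg_distrib]
  congr 1
  · ring
  · exact Finset.sum_congr rfl fun t _ => by ring

include hdim in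
theorem dot_w (a : ℤ) (b : Fin r → ℤ) : dot k X (cls k hWi D a b) (mk W hWi) = -3 * a + ∑ t, b t := by
  rw [dot_comm, dot_cls k hdim, dot_comm, D.h_w]
  congr 1
  · ring
  · exact Finset.sum_congr rfl fun t _ => by rw [dot_comm, D.e_w, mul_one]

include hdim in
theorem cls_injective {a a' : ℤ} {b b' : Fin r → ℤ} (h : cls k hWi D a b = cls k hWi D a' b') : a = a' ∧ b = b' := by
  constructor
  · rw [← dot_h k hdim hWi D a b, h, dot_h k hdim]
  · funext t
    have := dot_e k hdim hWi D a b t
    rw [h, dot_e k hdim] at this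
    linarith

include hdim D in
/-- `K² = 9 - r`. -/
theorem w_w : dot k X (mk W hWi) (mk W hWi) = 9 - r := by
  obtain ⟨a, b, h⟩ := D.gen (mk W hWi)
  have h' : mk W hWi = cls k hWi D a b := h
  have ha : a = -3 := by
    have e1 : dot k X (mk W hWi) D.h = dot k X (cls k hWi D a b) D.h := congrArg (fun z => dot k X z D.h) h'
    rw [dot_h k hdim, dot_comm, D.h_w] at e1
    exact e1.symm
  have hb : ∀ t, b t = -1 := fun t => by
    have e1 : dot k X (mk W hWi) (ic (D.E t) (D.eff t)) = dot k X (cls k hWi D a b) (ic (D.E t) (D.eff t)) :=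
      congrArg (fun z => dot k X z (ic (D.E t) (D.eff t))) h'
    rw [dot_e k hdim, dot_comm, D.e_w t] at e1
    linarith
  have e2 : dot k X (mk W hWi) (mk W hWi) = dot k X (cls k hWi D a b) (cls k hWi D a b) :=
    congrArg (fun z => dot k X z z) h'
  rw [e2, dot_self k hdim, ha]
  simp [hb]

section ample
variable [IsAlgClosed k] {L : X.Modules} (hL : PicF.IsInvertible L) (hamp : CohB1.IsAmple L)
  (hLW : mk L hL = (mk W hWi)⁻¹) (hr : r ≤ 6)

include hdim in
/-- The vector of a line. -/
theorem exists_vec (hW : ExtPow.IsExtPow 2 (Omega.sheaf (X ↘ (Sp k))) W) (hr : r ≤ 6) {C : X.IdealSheafData}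
    (hC : IsCurve C) (hCe : BlowUp.IsEffCartierIdeal C)
    (h : dot k X (ic C hCe) (mk W hWi) = 1) :
    dot k X (ic C hCe) (ic C hCe) = -1 ∧ ∃ v ∈ T r, (ic C hCe)⁻¹ = cls k hWi D v.1 v.2 := by
  obtain ⟨a, b, hab⟩ := D.gen (ic C hCe)⁻¹
  have hab' : (ic C hCe)⁻¹ = cls k hWi D a b := hab
  have h1 : 3 * a - ∑ t, b t = 1 := by
    have := dot_w k hdim hWi D a b
    rw [← hab', dot_inv_left k X hdim.le, h] at this
    linarith
  have h2 : dot k X (ic C hCe) (ic C hCe) = a ^ 2 - ∑ t, b t ^ 2 := by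
    rw [← dot_self k hdim hWi D, ← hab', dot_inv_inv k X hdim.le]
  have h3 := adj k hdim hW hWi hCe
  rw [K464.RatConf.euler_curve k hC, h] at h3
  have h4 := not_pos hr a b
  have h5 : Module.finrank k (Coh.HH X (ClSub.quotMod C) 1) = 0 := by
    by_contra hcon
    refine h4 ?_ h1
    rw [← h2]
    have : 1 ≤ Module.finrank k (Coh.HH X (ClSub.quotMod C) 1) := Nat.one_le_iff_ne_zero.2 hcon
    omega
  have h6 : dot k X (ic C hCe) (ic C hCe) = -1 := by
    rw [h5] at h3
    push_cast at h3
    linarith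
  exact ⟨h6, (a, b), ⟨by rw [← h2, h6], h1⟩, hab'⟩

include hdim in
/-- A curve of negative self-intersection is determined by its class. -/
theorem eq_of_class {C C' : X.IdealSheafData} (hC : IsCurve C) (hCe : BlowUp.IsEffCartierIdeal C)
    (hC' : IsCurve C') (hCe' : BlowUp.IsEffCartierIdeal C') (h : ic C hCe = ic C' hCe')
    (hneg : dot k X (ic C hCe) (ic C hCe) < 0) : C = C' := by
  by_contra hne
  have h1 := dot_ic_ic_nonneg k hC hCe hCe' (gp_notMem hC hC' hne)
  rw [← h] at h1
  linarith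

include hdim hamp in
/-- An effective divisor of degree one is a curve. -/
theorem isCurve_of_degOn {F : X.IdealSheafData} (hF : BlowUp.IsEffCartierIdeal F)
    (h : degOn k X F (mk L hL) = 1) : IsCurve F := by
  have : IsNoetherian X := CurvesB.CurveRR.isNoetherian_of_proper k X
  refine eff_induction k (X ↘ Spec (CommRingCat.of k)) hdim (fun x => S1535.result k X x)
    (P := fun F => BlowUp.IsEffCartierIdeal F → degOn k X F (mk L hL) = 1 → IsCurve F) ?_ ?_ F hF hF h
  · intro _ h
    rw [degOn_top] at h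
    norm_num at h
  · intro C F hC hCe hFe _ _ h
    rw [degOn_eff_mul k hdim.le hCe hFe] at h
    have h1 := degOn_pos_of_ample k hC hL hamp
    by_cases hF' : F = ⊤
    · subst hF'
      have : C * ⊤ = C := mul_one C
      rw [this]; exact hC
    · have := degOn_pos_of_ample_eff k hdim hL hamp hFe hF'
      omega

include hdim hamp hLW in
/-- Every vector is the class of a line. -/
theorem exists_line (hW : ExtPow.IsExtPow 2 (Omega.sheaf (X ↘ (Sp k))) W) (hr : r ≤ 6)
    {v : ℤ × (Fin r → ℤ)} (hv : v ∈ T r) :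
    ∃ (C : X.IdealSheafData) (hC : IsCurve C) (hCe : BlowUp.IsEffCartierIdeal C),
      dot k X (ic C hCe) (mk W hWi) = 1 ∧ (ic C hCe)⁻¹ = cls k hWi D v.1 v.2 := by
  obtain ⟨h1, h2⟩ := hv
  set a := cls k hWi D v.1 v.2 with ha
  have haa : dot k X a a = -1 := by rw [ha, dot_self k hdim, h1]
  have haw : dot k X a (mk W hWi) = -1 := by rw [ha, dot_w k hdim]; linarith
  have h3 := rr k hdim hW hWi a
  rw [haa, haw, D.chi_one] at h3
  have h4 : chi k X a = 1 := by linarith
  have h5 : hc k X 2 a = 0 := by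
    rw [hc_dual k hdim hW hWi a 0 2 rfl]
    refine hc_zero_eq_zero k hdim hL hamp ?_
    rw [hLW, dot_inv_right k X hdim.le, dot_mul_left k X hdim.le, dot_inv_left k X hdim.le, haw, w_w k hdim hWi D]
    have : (r : ℤ) ≤ 6 := by exact_mod_cast hr
    linarith
  have h6 := chi_le k X hdim.le a
  rw [h4, h5] at h6
  have h7 : 0 < hc k X 0 a := by
    have : (1 : ℤ) ≤ hc k X 0 a := by simpa using h6
    exact_mod_cast this
  obtain ⟨E, hE, hE'⟩ := exists_div k h7
  have h8 : ic E hE = a⁻¹ := by rw [hE', inv_inv]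
  have h9 : dot k X (ic E hE) (mk W hWi) = 1 := by rw [h8, dot_inv_left k X hdim.le, haw]; norm_num
  refine ⟨E, isCurve_of_degOn k hdim hL hamp hE ?_, hE, h9, by rw [hE']⟩
  rw [degOn_eq_neg_dot k X hE, hLW, dot_inv_right k X hdim.le, h9]; norm_num

include hdim hamp hLW D in
/-- **The lines.** -/
theorem lines (hW : ExtPow.IsExtPow 2 (Omega.sheaf (X ↘ (Sp k))) W) (hr : r ≤ 6) :
    {C : X.IdealSheafData | IsIntegral C.subscheme ∧ topologicalKrullDim (C.support : Set X) = 1 ∧
        FGA.intNum k X 2 ![ClSub.idealMod C, W] (Coh.structureModule X) = 1}.Finite ∧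
      {C : X.IdealSheafData | IsIntegral C.subscheme ∧ topologicalKrullDim (C.support : Set X) = 1 ∧
        FGA.intNum k X 2 ![ClSub.idealMod C, W] (Coh.structureModule X) = 1}.ncard =
        r + r.choose 2 + r.choose 5 := by
  classical
  have hex := fun (v : ℤ × (Fin r → ℤ)) (hv : v ∈ T r) =>
    exists_line k hdim hWi D hL hamp hLW hW hr hv
  choose f hfC hfe hfw hfc using hex
  let g : ℤ × (Fin r → ℤ) → X.IdealSheafData := fun v => if h : v ∈ T r then f v h else ⊤
  have hg : ∀ v (hv : v ∈ T r), g v = f v hv := fun v hv => dif_pos hv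
  have himg : {C : X.IdealSheafData | IsIntegral C.subscheme ∧ topologicalKrullDim (C.support : Set X) = 1 ∧
        FGA.intNum k X 2 ![ClSub.idealMod C, W] (Coh.structureModule X) = 1} = g '' T r := by
    ext C
    constructor
    · rintro ⟨h1, h2, h3⟩
      have hC : IsCurve C := ⟨h1, h2⟩
      have hCe := isEff_of_smooth k hdim hC
      have h4 : dot k X (ic C hCe) (mk W hWi) = 1 := by
        rw [← h3]
        exact (intNum_eq_dot k X hdim.le _ _).symm
      obtain ⟨h5, v, hv, h6⟩ := exists_vec k hdim hWi D hW hr hC hCe h4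
      refine ⟨v, hv, ?_⟩
      rw [hg v hv]
      refine (eq_of_class k hdim hC hCe (hfC v hv) (hfe v hv) ?_ (by rw [h5]; norm_num)).symm
      rw [← inv_inj, h6, hfc v hv]
    · rintro ⟨v, hv, rfl⟩
      rw [hg v hv]
      refine ⟨(hfC v hv).1, (hfC v hv).2, ?_⟩
      rw [← hfw v hv]
      exact intNum_eq_dot k X hdim.le _ _
  have hinj : Set.InjOn g (T r) := by
    intro v hv v' hv' h
    rw [hg v hv, hg v' hv'] at h
    have h1 : ic (f v hv) (hfe v hv) = ic (f v' hv') (hfe v' hv') := ic_congr _ _ h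
    have h2 : cls k hWi D v.1 v.2 = cls k hWi D v'.1 v'.2 := by rw [← hfc v hv, ← hfc v' hv', h1]
    obtain ⟨h3, h4⟩ := cls_injective k hdim hWi D h2
    exact Prod.ext h3 h4
  rw [himg]
  exact ⟨(finite_T hr).image _, by rw [hinj.ncard_image, ncard_T hr]⟩

end ample

end K883.Lines
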