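import Groth.Agent.S1682
import Groth.Agent.Surf.K465.PicBlow

/-!
# Invertible classes on a blow-up with parafactorial centre

* `exists_div_of_pull_eq_one`: a class which is trivial off an effective Cartier divisor `D` is a difference of
  divisors supported on `D`.
* `exists_pull_mul_div`: if `(X, V(J))` is a parafactorial pair, then every invertible class on the blow-up `X'` of
  `J` is a pullback from `X` times a divisor supported on the exceptional locus.
-/

set_option autoImplicit false
universe u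
open CategoryTheory CategoryTheory.Limits AlgebraicGeometry Opposite TopologicalSpace

namespace K883.BlowGen

open Groth.Agent.Grpsch.PicGrp Groth.Agent Groth.Agent.Fga.PicMon K464.Base K465.PicBlow
open Groth.Agent.Dix.IdealModCartier

/-- A class which becomes trivial off `D` is a difference of divisors supported on `D`. -/
theorem exists_div_of_pull_eq_one {X : Scheme.{u}} [IsIntegral X] [IsNoetherian X] (D : X.IdealSheafData)
    (hD : BlowUp.IsEffCartierIdeal D) (a : Pic X) (U : X.Opens) (hU : (U : Set X) = (D.support : Set X)ᶜ)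
    (hne : (U : Set X).Nonempty) (h : pull U.ι a = 1) :
    ∃ (m : ℕ) (D' : X.IdealSheafData) (hD' : BlowUp.IsEffCartierIdeal D'), (D'.support : Set X) ⊆ D.support ∧
      a * ic D' hD' = ic D hD ^ m := by
  obtain ⟨N, hN, rfl⟩ := exists_mk a
  rw [pull_mk, one_def, mk_eq_iff] at h
  obtain ⟨s, hs⟩ := Models.H38.TrivGen.exists_isGen_opensRange U.ι h
  have hU' : (U.ι.opensRange : Set X) = (D.support : Set X)ᶜ := by
    rw [Scheme.Opens.opensRange_ι, hU]
  have hne' : (U.ι.opensRange : Set X).Nonempty := by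
    rw [Scheme.Opens.opensRange_ι]; exact hne
  obtain ⟨m, D', hD', h1, h2⟩ := K455.PicLoc.exists_divisor_off D hD hN hU' hne' s hs
  refine ⟨m, D', hD', h1, ?_⟩
  rw [← mc_tensorPow, ← mc_tensor, mc_eq_iff] at h2
  rw [ic, ic, ← mk_tensorPow, mk_mul_mk, mk_eq_iff]
  exact h2

/-- Classes on a blow-up with parafactorial centre. -/
theorem exists_pull_mul_div {X X' : Scheme.{u}} [IsLocallyNoetherian X] [IsIntegral X'] [IsNoetherian X']
    (π : X' ⟶ X) (J : X.IdealSheafData) (hπ : BlowUp.IsBlowUp π J)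
    (hpar : ParaF.IsParafactorialPair X J.support) (hne : ∃ y : X', π y ∉ J.support) (a : Pic X') :
    ∃ (b : Pic X) (m : ℕ) (D' : X'.IdealSheafData) (hD' : BlowUp.IsEffCartierIdeal D'),
      (D'.support : Set X') ⊆ (J.comap π).support ∧ a * ic D' hD' = pull π b * ic (J.comap π) hπ.1 ^ m := by
  set D := J.comap π with hD
  let U : X.Opens := J.support.compl
  have hiso : IsIso (π ∣_ U) := S1682.result J π hπ
  obtain ⟨b, hb⟩ := exists_ext hpar (pull (inv (π ∣_ U)) (pull (π ⁻¹ᵁ U).ι a))
  have h1 : pull (π ⁻¹ᵁ U).ι (pull π b) = pull (π ⁻¹ᵁ U).ι a := by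
    rw [← pull_comp, ← morphismRestrict_ι, pull_comp]
    change pull (π ∣_ U) (pull (Scheme.Opens.ι J.support.compl) b) = _
    rw [hb, ← pull_comp, IsIso.hom_inv_id, pull_id]
  have h2 : pull (π ⁻¹ᵁ U).ι (a * (pull π b)⁻¹) = 1 := by
    rw [map_mul, map_inv, h1, mul_inv_cancel]
  have hsupp : (D.support : Set X') = π ⁻¹' (J.support : Set X) := by
    rw [hD, Scheme.IdealSheafData.support_comap]
    rfl
  have hU : ((π ⁻¹ᵁ U : X'.Opens) : Set X') = (D.support : Set X')ᶜ := by
    rw [hsupp]
    rfl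
  obtain ⟨y, hy⟩ := hne
  obtain ⟨m, D', hD', h3, h4⟩ := exists_div_of_pull_eq_one D hπ.1 _ (π ⁻¹ᵁ U) hU ⟨y, hy⟩ h2
  refine ⟨b, m, D', hD', h3, ?_⟩
  rw [← h4, mul_comm a ((pull π) b)⁻¹, mul_assoc, mul_inv_cancel_left]

end K883.BlowGen
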