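import Mathlib

/-!
# The lattice count of lines on a del Pezzo surface of degree at least 3

The integral vectors `(a; b_1, …, b_r)`, `r ≤ 6`, with `a² - Σ b_i² = -1` and `3a - Σ b_i = 1` are
`(0; -1)`, `(1; 1, 1)` and `(2; 1⁵)`, up to the order of the `b_i`.
-/

set_option autoImplicit false

namespace K883.LineLat

open Finset

variable {r : ℕ}

/-- The vector `(a; ε on s, 0 off s)`. -/
def vec (a ε : ℤ) (s : Finset (Fin r)) : ℤ × (Fin r → ℤ) := (a, fun i => if i ∈ s then ε else 0)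

theorem vec_injective (a ε : ℤ) (h : ε ≠ 0) : Function.Injective (vec (r := r) a ε) := by
  intro s t hst
  have h1 := congrArg Prod.snd hst
  ext i
  have h2 := congrFun h1 i
  simp only [vec] at h2
  by_cases hs : i ∈ s <;> by_cases ht : i ∈ t <;> simp_all

theorem sum_vec (a ε : ℤ) (s : Finset (Fin r)) : ∑ i, (vec a ε s).2 i = s.card * ε := by
  simp [vec, Finset.sum_ite_mem]

theorem sum_sq_vec (a ε : ℤ) (s : Finset (Fin r)) : ∑ i, (vec a ε s).2 i ^ 2 = s.card * ε ^ 2 := by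
  have h : ∀ i, (vec a ε s).2 i ^ 2 = if i ∈ s then ε ^ 2 else 0 := fun i => by
    simp only [vec]; split_ifs <;> simp
  simp [h, Finset.sum_ite_mem]

/-- The set of vectors. -/
def T (r : ℕ) : Set (ℤ × (Fin r → ℤ)) :=
  {v | v.1 ^ 2 - ∑ i, v.2 i ^ 2 = -1 ∧ 3 * v.1 - ∑ i, v.2 i = 1}

/-- If `Σ b_i (b_i - ε) = 0` with `ε = ±1` then `b_i ∈ {0, ε}`. -/
theorem eq_vec {ε : ℤ} (hε : ε = 1 ∨ ε = -1) (a : ℤ) (b : Fin r → ℤ) (h : ∑ i, b i ^ 2 = ε * ∑ i, b i) :
    (a, b) = vec a ε (univ.filter fun i => b i = ε) := by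
  have h1 : ∑ i, (b i ^ 2 - ε * b i) = 0 := by
    rw [Finset.sum_sub_distrib, ← Finset.mul_sum, h, sub_self]
  have h2 : ∀ i ∈ (univ : Finset (Fin r)), 0 ≤ b i ^ 2 - ε * b i := fun i _ => by
    rcases hε with rfl | rfl
    · rcases le_or_gt (b i) 0 with h | h <;> nlinarith
    · rcases le_or_gt 0 (b i) with h | h <;> nlinarith
  rw [Finset.sum_eq_zero_iff_of_nonneg h2] at h1
  refine Prod.ext rfl ?_
  funext i
  have h3 := h1 i (mem_univ i)
  simp only [vec, mem_filter, mem_univ, true_and]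
  split_ifs with h4
  · exact h4
  · have : b i * (b i - ε) = 0 := by linarith [h3, pow_two (b i)]
    rcases mul_eq_zero.1 this with h5 | h5
    · exact h5
    · exact absurd (by linarith) h4

theorem mem_T_iff (hr : r ≤ 6) (v : ℤ × (Fin r → ℤ)) : v ∈ T r ↔
    v ∈ vec 0 (-1) '' ((powersetCard 1 univ : Finset (Finset (Fin r))) : Set (Finset (Fin r))) ∪
      (vec 1 1 '' ((powersetCard 2 univ : Finset (Finset (Fin r))) : Set (Finset (Fin r))) ∪
        vec 2 1 '' ((powersetCard 5 univ : Finset (Finset (Fin r))) : Set (Finset (Fin r)))) := by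
  constructor
  · rintro ⟨h1, h2⟩
    obtain ⟨a, b⟩ := v
    simp only at h1 h2
    have hcs : (∑ i, b i) ^ 2 ≤ 6 * ∑ i, b i ^ 2 := by
      have := sq_sum_le_card_mul_sum_sq (s := (univ : Finset (Fin r))) (f := b)
      have h0 : (0 : ℤ) ≤ ∑ i, b i ^ 2 := Finset.sum_nonneg fun i _ => sq_nonneg _
      have h6 : ((univ : Finset (Fin r)).card : ℤ) ≤ 6 := by simpa using hr
      calc (∑ i, b i) ^ 2 ≤ _ := this
        _ ≤ _ := by gcongr
    have hs : ∑ i, b i = 3 * a - 1 := by linarith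
    have hq : ∑ i, b i ^ 2 = a ^ 2 + 1 := by linarith
    rw [hs, hq] at hcs
    have ha0 : 0 ≤ a := by
      by_contra hc
      push Not at hc
      nlinarith
    have ha2 : a ≤ 2 := by
      by_contra hc
      push Not at hc
      nlinarith
    have hcard : ∀ (ε : ℤ) (m : ℕ), ε ≠ 0 → (a, b) = vec a ε (univ.filter fun i => b i = ε) →
        ∑ i, b i = m * ε → (univ.filter fun i => b i = ε) ∈ powersetCard m (univ : Finset (Fin r)) := by
      intro ε m hε hv hm
      have h4 := sum_vec a ε (univ.filter fun i => b i = ε)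
      rw [← hv] at h4
      simp only at h4
      rw [hm] at h4
      have := mul_right_cancel₀ hε h4
      rw [mem_powersetCard]
      exact ⟨subset_univ _, by exact_mod_cast this.symm⟩
    obtain rfl | rfl | rfl : a = 0 ∨ a = 1 ∨ a = 2 := by omega
    · left
      have hv := eq_vec (Or.inr rfl) 0 b (by rw [hq, hs]; norm_num)
      exact ⟨_, hcard (-1) 1 (by norm_num) hv (by rw [hs]; norm_num), hv.symm⟩
    · right; left
      have hv := eq_vec (Or.inl rfl) 1 b (by rw [hq, hs]; norm_num)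
      exact ⟨_, hcard 1 2 (by norm_num) hv (by rw [hs]; norm_num), hv.symm⟩
    · right; right
      have hv := eq_vec (Or.inl rfl) 2 b (by rw [hq, hs]; norm_num)
      exact ⟨_, hcard 1 5 (by norm_num) hv (by rw [hs]; norm_num), hv.symm⟩
  · rintro (⟨s, hs, rfl⟩ | ⟨s, hs, rfl⟩ | ⟨s, hs, rfl⟩) <;>
    · simp only [mem_coe, mem_powersetCard, subset_univ, true_and] at hs
      refine ⟨?_, ?_⟩
      · rw [sum_sq_vec, hs]; simp [vec]
      · rw [sum_vec, hs]; simp [vec]

theorem finite_T (hr : r ≤ 6) : (T r).Finite := by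
  rw [Set.ext (mem_T_iff hr)]
  exact ((finite_toSet _).image _).union (((finite_toSet _).image _).union ((finite_toSet _).image _))

theorem ncard_T (hr : r ≤ 6) : (T r).ncard = r + r.choose 2 + r.choose 5 := by
  rw [Set.ext (mem_T_iff hr)]
  have hf : ∀ (a ε : ℤ) (m : ℕ), (vec a ε ''
      ((powersetCard m univ : Finset (Finset (Fin r))) : Set (Finset (Fin r)))).Finite :=
    fun a ε m => (finite_toSet _).image _
  have hc : ∀ (a ε : ℤ) (m : ℕ), ε ≠ 0 → (vec a ε ''
      ((powersetCard m univ : Finset (Finset (Fin r))) : Set (Finset (Fin r)))).ncard = r.choose m := by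
    intro a ε m hε
    rw [Set.ncard_image_of_injective _ (vec_injective a ε hε), Set.ncard_coe_finset, card_powersetCard]
    simp
  have hd : ∀ (a ε : ℤ) (m : ℕ) (a' ε' : ℤ) (m' : ℕ), a ≠ a' → Disjoint (vec a ε ''
      ((powersetCard m univ : Finset (Finset (Fin r))) : Set (Finset (Fin r)))) (vec a' ε' ''
      ((powersetCard m' univ : Finset (Finset (Fin r))) : Set (Finset (Fin r)))) := by
    intro a ε m a' ε' m' h
    rw [Set.disjoint_left]
    rintro _ ⟨s, _, rfl⟩ ⟨t, _, ht⟩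
    exact h (congrArg Prod.fst ht).symm
  rw [Set.ncard_union_eq (Set.disjoint_union_right.2 ⟨hd _ _ _ _ _ _ (by norm_num), hd _ _ _ _ _ _ (by norm_num)⟩)
    (hf _ _ _) ((hf _ _ _).union (hf _ _ _)),
    Set.ncard_union_eq (hd _ _ _ _ _ _ (by norm_num)) (hf _ _ _) (hf _ _ _), hc _ _ _ (by norm_num),
    hc _ _ _ (by norm_num), hc _ _ _ (by norm_num), Nat.choose_one_right, add_assoc]

/-- A vector `(a; b)` with `a² - Σ b_i² ≥ 1` has `3a - Σ b_i ≠ 1`. -/
theorem not_pos (hr : r ≤ 6) (a : ℤ) (b : Fin r → ℤ) (h1 : 1 ≤ a ^ 2 - ∑ i, b i ^ 2) : 3 * a - ∑ i, b i ≠ 1 := by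
  intro h2
  have hcs : (∑ i, b i) ^ 2 ≤ 6 * ∑ i, b i ^ 2 := by
    have := sq_sum_le_card_mul_sum_sq (s := (univ : Finset (Fin r))) (f := b)
    have h0 : (0 : ℤ) ≤ ∑ i, b i ^ 2 := Finset.sum_nonneg fun i _ => sq_nonneg _
    have h6 : ((univ : Finset (Fin r)).card : ℤ) ≤ 6 := by simpa using hr
    calc (∑ i, b i) ^ 2 ≤ _ := this
      _ ≤ _ := by gcongr
  have hs : ∑ i, b i = 3 * a - 1 := by linarith
  rw [hs] at hcs
  nlinarith [sq_nonneg (a - 1)]

end K883.LineLat
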